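import Cfsg.Agent.Lib.JankoFour.BitModel.Pick

/-!
# The twenty-four points and automorphisms of the bit model
-/

set_option autoImplicit false
set_option maxRecDepth 4000
set_option maxHeartbeats 0

namespace Cfsg.Lib.JankoFour.BitModel

/-- The twenty-four points. -/
def fList : List ℕ :=
  [0, 2, 4, 7, 135, 142, 150, 158, 263, 294, 326, 358, 902, 941, 979, 1017, 1414, 1467, 1481, 1525, 1926, 1969,
   2013, 2027]

/-- A point. -/
def fPt (i : ℕ) : ℕ := fList.getD i 0

theorem fPair : (allLt 24 fun i => Nat.blt (fPt i) 2048 && allLt 24 fun j =>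
    Nat.beq i j || inD (fPt i ^^^ fPt j)) = true := by decide +kernel

theorem testBit_orFold {α : Type*} (g : α → ℕ) : ∀ (L : List α) (m v : ℕ),
    (L.foldl (fun m a => m ||| 1 <<< g a) m).testBit v = true → m.testBit v = true ∨ ∃ a ∈ L, g a = v
  | [], _, _, h => Or.inl h
  | a :: L, m, v, h => by
    rcases testBit_orFold g L _ v h with h | ⟨b, hb, e⟩
    · rw [Nat.testBit_or, Bool.or_eq_true, Nat.one_shiftLeft, Nat.testBit_two_pow, decide_eq_true_eq] at h
      exact h.imp id fun e => ⟨a, List.mem_cons_self .., e⟩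
    · exact Or.inr ⟨b, List.mem_cons_of_mem _ hb, e⟩

/-- The pairs of different points. -/
def fPairs : List (ℕ × ℕ) := (List.range 24).flatMap fun i => (List.range i).map fun j => (i, j)

theorem fMask : fPairs.foldl (fun m a => m ||| 1 <<< (fPt a.1 ^^^ fPt a.2)) 0 = dMask := by decide +kernel

theorem fSurj : (allLt 2048 fun v => !inD v || (List.range 24).any fun i => (List.range 24).any fun j =>
    !(Nat.beq i j) && Nat.beq (fPt i ^^^ fPt j) v) = true := by
  refine List.all_eq_true.2 fun v _ => ?_
  rw [Bool.or_eq_true, Bool.not_eq_true']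
  cases hv : inD v
  · exact Or.inl rfl
  refine Or.inr ?_
  rw [inD, ← fMask] at hv
  obtain h | ⟨⟨i, j⟩, hm, e⟩ := testBit_orFold (fun a : ℕ × ℕ => fPt a.1 ^^^ fPt a.2) _ _ _ hv
  · rw [Nat.zero_testBit] at h
    exact absurd h Bool.false_ne_true
  obtain ⟨i', hi, hj⟩ := List.mem_flatMap.1 hm
  obtain ⟨j', hj', hp⟩ := List.mem_map.1 hj
  obtain ⟨rfl, rfl⟩ := Prod.mk.inj hp
  rw [List.mem_range] at hi hj'
  refine List.any_eq_true.2 ⟨i', List.mem_range.2 hi, List.any_eq_true.2 ⟨j', List.mem_range.2 (by omega), ?_⟩⟩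
  rw [Bool.and_eq_true, Bool.not_eq_true']
  refine ⟨?_, ?_⟩
  · cases hb : Nat.beq i' j'
    · rfl
    · exact absurd (Nat.eq_of_beq_eq_true hb) (by omega)
  · show Nat.beq (fPt i' ^^^ fPt j') v = true
    rw [show fPt i' ^^^ fPt j' = v from e]
    exact Nat.beq_refl v

/-- The members. -/
def dList : List ℕ := (List.range 2048).filter inD

theorem dSpan : (allLt 2048 fun v => inD v || Nat.beq v 0 || dList.any fun t => inD (v ^^^ t)) = true := by
  decide +kernel

theorem inD_count : Nat.beq dList.length 276 = true := by decide +kernel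

theorem notD_count : Nat.beq ((List.range 2048).filter fun v => v != 0 && !inD v).length 1771 = true := by
  decide +kernel

theorem inD_zero : inD 0 = false := by decide +kernel

/-- A linear map from its images of the units. -/
def lin (L : List ℕ) (v : ℕ) : ℕ :=
  (List.range 11).foldl (fun r i => r ^^^ cst (v.testBit i) (L.getD i 0)) 0

theorem foldl_xor (g : ℕ → ℕ) : ∀ (l : List ℕ) (a : ℕ),
    l.foldl (fun r i => r ^^^ g i) a = a ^^^ l.foldl (fun r i => r ^^^ g i) 0
  | [], a => by simp
  | x :: l, a => by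
    rw [List.foldl_cons, List.foldl_cons, foldl_xor g l (a ^^^ g x), foldl_xor g l (0 ^^^ g x), Nat.zero_xor,
      Nat.xor_assoc]

theorem lin_xor (L : List ℕ) (v w : ℕ) : lin L (v ^^^ w) = lin L v ^^^ lin L w := by
  unfold lin
  generalize List.range 11 = l
  induction l with
  | nil => simp
  | cons x l ih =>
    simp only [List.foldl_cons, Nat.zero_xor]
    rw [foldl_xor (fun i => cst ((v ^^^ w).testBit i) (L.getD i 0)) l, foldl_xor (fun i => cst (v.testBit i) (L.getD i 0)) l,
      foldl_xor (fun i => cst (w.testBit i) (L.getD i 0)) l, ih, Nat.testBit_xor, cst_xor]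
    ac_rfl

/-- A linear map with inverse keeping the set. -/
def autOk (L L' : List ℕ) : Bool :=
  allLt 2048 fun v => Nat.blt (lin L v) 2048 && Nat.blt (lin L' v) 2048 && Nat.beq (lin L' (lin L v)) v &&
    Nat.beq (lin L (lin L' v)) v && (inD (lin L v) == inD v)

/-- An automorphism fusing the orbits in the fixed part. -/
def mixL : List ℕ := [1, 42, 126, 7, 4, 61, 114, 900, 1651, 1783, 1846]

/-- Its inverse. -/
def mixR : List ℕ := [1, 25, 16, 84, 42, 79, 60, 784, 1325, 1709, 2028]

theorem mix_ok : autOk mixL mixR = true := by decide +kernel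

end Cfsg.Lib.JankoFour.BitModel
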