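import Mathlib.Data.Nat.Bitwise
import Mathlib.Data.List.Range
import Mathlib.Algebra.Group.Defs

/-!
# A bit model of the elementary abelian group of order `2¹¹`

A vector of the six-dimensional fixed space is a number below 64, a member of the hexad group a number
below 16, and an element of the group of order `2¹¹` is coded in eleven bits.
-/

set_option autoImplicit false

namespace Cfsg.Lib.JankoFour.BitModel

/-- A bit as a multiple. -/
def cst (b : Bool) (k : ℕ) : ℕ := if b then k else 0

theorem cst_xor (a b : Bool) (k : ℕ) : cst (a ^^ b) k = cst a k ^^^ cst b k := by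
  cases a <;> cases b <;> simp [cst]

/-- Six bits as a number. -/
def mk6 (f : ℕ → Bool) : ℕ :=
  cst (f 0) 1 ^^^ cst (f 1) 2 ^^^ cst (f 2) 4 ^^^ cst (f 3) 8 ^^^ cst (f 4) 16 ^^^ cst (f 5) 32

theorem mk6_lt (f : ℕ → Bool) : mk6 f < 64 := by
  unfold mk6
  generalize f 0 = a, f 1 = b, f 2 = c, f 3 = d, f 4 = e, f 5 = g
  revert a b c d e g
  decide

theorem testBit_mk6 (f : ℕ → Bool) {i : ℕ} (hi : i < 6) : (mk6 f).testBit i = f i := by
  obtain rfl | rfl | rfl | rfl | rfl | rfl : i = 0 ∨ i = 1 ∨ i = 2 ∨ i = 3 ∨ i = 4 ∨ i = 5 := by omega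
  all_goals
    unfold mk6
    generalize f 0 = a, f 1 = b, f 2 = c, f 3 = d, f 4 = e, f 5 = g
    revert a b c d e g
    decide

theorem mk6_congr {f g : ℕ → Bool} (h : ∀ i < 6, f i = g i) : mk6 f = mk6 g := by
  simp only [mk6, h 0 (by decide), h 1 (by decide), h 2 (by decide), h 3 (by decide), h 4 (by decide),
    h 5 (by decide)]

theorem eq_of_bits {x y : ℕ} (hx : x < 64) (hy : y < 64) (h : ∀ i < 6, x.testBit i = y.testBit i) : x = y := by
  refine Nat.eq_of_testBit_eq fun i => ?_
  by_cases hi : i < 6
  · exact h i hi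
  · have h6 : 64 ≤ 2 ^ i := Nat.pow_le_pow_right (n := 2) (i := 6) (by decide) (by omega)
    rw [Nat.testBit_lt_two_pow (by omega), Nat.testBit_lt_two_pow (by omega)]

theorem mk6_xor (f g : ℕ → Bool) : mk6 (fun i => f i ^^ g i) = mk6 f ^^^ mk6 g := by
  refine eq_of_bits (mk6_lt _) (Nat.xor_lt_two_pow (n := 6) (mk6_lt _) (mk6_lt _)) fun i hi => ?_
  rw [Nat.testBit_xor, testBit_mk6 _ hi, testBit_mk6 _ hi, testBit_mk6 _ hi]

theorem mk6_testBit {x : ℕ} (hx : x < 64) : mk6 x.testBit = x :=
  eq_of_bits (mk6_lt _) hx fun _ hi => testBit_mk6 _ hi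

/-- The parity of six bits. -/
def par (x : ℕ) : Bool :=
  x.testBit 0 ^^ x.testBit 1 ^^ x.testBit 2 ^^ x.testBit 3 ^^ x.testBit 4 ^^ x.testBit 5

theorem par_xor (x y : ℕ) : par (x ^^^ y) = (par x ^^ par y) := by
  simp only [par, Nat.testBit_xor, Bool.xor_comm, Bool.xor_left_comm, Bool.xor_assoc]

theorem par_and_xor (x y k : ℕ) : par ((x ^^^ y) &&& k) = (par (x &&& k) ^^ par (y &&& k)) := by
  rw [Nat.and_xor_distrib_right, par_xor]

/-- The coefficient action of the scalar on the fixed space. -/
def rot (x : ℕ) : ℕ := (x >>> 1 &&& 21) ^^^ ((x &&& 21 ^^^ x >>> 1 &&& 21) <<< 1)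

/-- The action of the scalar on the functionals; it is also the inverse of `rot`. -/
def pc (x : ℕ) : ℕ := (x &&& 21 ^^^ x >>> 1 &&& 21) ^^^ ((x &&& 21) <<< 1)

/-- The coefficient action of the first element of order three. -/
def yw (x : ℕ) : ℕ := (x &&& 3) ^^^ (pc x &&& 12) ^^^ (rot x &&& 48)

/-- The action of the first element of order three on the functionals. -/
def yc (x : ℕ) : ℕ := (x &&& 3) ^^^ (rot x &&& 12) ^^^ (pc x &&& 48)

/-- The action of the second element of order three, the same on both sides. -/
def sh (x : ℕ) : ℕ := (x <<< 2 &&& 63) ^^^ (x >>> 4)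

/-- The rows of a form. -/
def row (u i : ℕ) : ℕ :=
  cst (u.testBit 0) ([2, 1, 8, 4, 0, 0].getD i 0) ^^^ cst (u.testBit 1) ([2, 1, 0, 0, 32, 16].getD i 0) ^^^
    cst (u.testBit 2) ([40, 20, 34, 17, 10, 5].getD i 0) ^^^ cst (u.testBit 3) ([28, 56, 49, 35, 7, 14].getD i 0)

/-- The map of a form. -/
def app (u x : ℕ) : ℕ := mk6 fun i => par (row u i &&& x)

/-- The bilinear form. -/
def bil (u x y : ℕ) : Bool := par (x &&& app u y)

/-- The square of a commutator. -/
def quad (u x : ℕ) : Bool := bil u x (pc x)

theorem app_lt (u x : ℕ) : app u x < 64 := mk6_lt _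

theorem row_xor (u v i : ℕ) : row (u ^^^ v) i = row u i ^^^ row v i := by
  simp only [row, Nat.testBit_xor, cst_xor]
  ac_rfl

theorem app_add (u x y : ℕ) : app u (x ^^^ y) = app u x ^^^ app u y := by
  rw [app, app, app, ← mk6_xor]
  exact mk6_congr fun i _ => by rw [Nat.and_xor_distrib_left, par_xor]

theorem app_xor (u v x : ℕ) : app (u ^^^ v) x = app u x ^^^ app v x := by
  rw [app, app, app, ← mk6_xor]
  exact mk6_congr fun i _ => by rw [row_xor, par_and_xor]

theorem bil_xor (u v x y : ℕ) : bil (u ^^^ v) x y = (bil u x y ^^ bil v x y) := by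
  rw [bil, app_xor, Nat.and_xor_distrib_left, par_xor, bil, bil]

theorem quad_xor (u v x : ℕ) : quad (u ^^^ v) x = (quad u x ^^ quad v x) := bil_xor ..

/-- The code of an element. -/
def code (b : Bool) (x u : ℕ) : ℕ := cst b 1 + 2 * x + 128 * u

theorem code_lt {b : Bool} {x u : ℕ} (hx : x < 64) (hu : u < 16) : code b x u < 2048 := by
  cases b <;> simp [code, cst] <;> omega

theorem code_inj {b b' : Bool} {x x' u u' : ℕ} (hx : x < 64) (hx' : x' < 64)
    (h : code b x u = code b' x' u') : b = b' ∧ x = x' ∧ u = u' := by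
  cases b <;> cases b' <;> simp [code, cst] at h ⊢ <;> omega

/-- The three parts of a code. -/
def cb (v : ℕ) : Bool := v.testBit 0

/-- The three parts of a code. -/
def cx (v : ℕ) : ℕ := v / 2 % 64

/-- The three parts of a code. -/
def cu (v : ℕ) : ℕ := v / 128

theorem cx_lt (v : ℕ) : cx v < 64 := Nat.mod_lt _ (by decide)

theorem cu_lt {v : ℕ} (h : v < 2048) : cu v < 16 := by unfold cu; omega

theorem parts_code (b : Bool) {x : ℕ} (u : ℕ) (hx : x < 64) :
    cb (code b x u) = b ∧ cx (code b x u) = x ∧ cu (code b x u) = u := by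
  cases b <;> simp [code, cst, cb, cx, cu, Nat.testBit_zero] <;> omega

theorem code_parts {v : ℕ} : code (cb v) (cx v) (cu v) = v := by
  simp only [code, cb, cx, cu, cst, Nat.testBit_zero]
  by_cases h : v % 2 = 1 <;> simp [h] <;> omega

/-- Conjugation by an element of `E` with given functional. -/
def eAct (c v : ℕ) : ℕ :=
  code (cb v ^^ par (c &&& cx v) ^^ quad (cu v) c) (cx v ^^^ app (cu v) c) (cu v)

/-- The rule for the classes of the lifts. -/
def sgn (al be ga : Bool) (u : ℕ) : Bool :=
  (al && u % 4 == 3) ^^ (be && u / 4 == 3) ^^ (ga && u % 4 != 0 && u / 4 != 0)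

/-- The union of the four small orbits on the fixed space, as masks. -/
def tri : List ℕ := [281479271747870, 5197297181987438592, 9385541756824584192, 2630181486845755392]

/-- The set of a candidate, as a mask. -/
def genD (oval : ℕ) (al be ga : Bool) : ℕ :=
  (List.range 16).foldl (fun m u => (List.range 64).foldl (fun m c =>
    m ||| if u == 0 then (if oval.testBit c then 1 <<< code false c 0 ||| 1 <<< code true c 0 else 0)
      else 1 <<< code (sgn al be ga u ^^ quad u c) (app u c) u) m) 0

/-- The oval. -/
def oval : ℕ := 281479271747870 ||| 9385541756824584192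

/-- The set of the elements not conjugate to the centre, as a mask. -/
def dMask : ℕ :=
  296646403827236390142903017295550108605564056540989153530184706643331555343542364226097856462870437120615826992608300184873027242326902394205396936218721814417860979719062055152630834050673480125443356496132591860983825830569115990959181470828979580166562243303665315584523786987644479724496466872091730849688275721402708817431521047953816219164566681873181234381618458480585134316316395986495544307682778052756548586602967120225969926228506080757633194434320436109212493617581882579613834692201071516825411219728665311243749394564168007237137735771088595885562534340029126099344820299809768158409198078810850300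

theorem dMask_eq : dMask = genD oval false false true := by decide +kernel

/-- Membership in the set. -/
def inD (v : ℕ) : Bool := dMask.testBit v

end Cfsg.Lib.JankoFour.BitModel
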