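import Cfsg.Agent.Lib.JankoFour.BitModel.Aut

/-!
# Small subsets of the second class in the bit model
-/

set_option autoImplicit false
set_option maxRecDepth 4000
set_option maxHeartbeats 0

namespace Cfsg.Lib.JankoFour.BitModel

/-- The members adjacent to the representative. -/
def nearTwo : List ℕ := dList.filter fun i => inD (i ^^^ 2)

theorem near_witness : (nearTwo.all fun i => (List.range 2048).any fun y =>
    !(Nat.beq y 0) && !inD y && inD (y ^^^ 2) && inD (y ^^^ i) && inD (y ^^^ 2 ^^^ i)) = true := by decide +kernel

theorem near_small : (nearTwo.all fun i => nearTwo.all fun j =>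
    Nat.beq j i || Nat.beq j (i ^^^ 2) || !(inD (j ^^^ i) && inD (j ^^^ 2 ^^^ i))) = true := by decide +kernel

theorem near_exists : (!(Nat.beq nearTwo.length 0) && !inD 12 && !inD (12 ^^^ 2) && inD 2) = true := by decide +kernel

end Cfsg.Lib.JankoFour.BitModel
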