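import Cfsg.Agent.Lib.JankoFour.BitModel.Basic

/-!
# Finite checks in the bit model
-/

set_option autoImplicit false
set_option maxRecDepth 4000

namespace Cfsg.Lib.JankoFour.BitModel

/-- A check on all numbers below a bound. -/
def allLt (n : ℕ) (f : ℕ → Bool) : Bool := (List.range n).all f

theorem allLt_spec {n : ℕ} {f : ℕ → Bool} (h : allLt n f = true) {i : ℕ} (hi : i < n) : f i = true :=
  List.all_eq_true.1 h i (List.mem_range.2 hi)

/-- A map is linear on the numbers below 64. -/
def linOk (f : ℕ → ℕ) : Bool :=
  allLt 64 fun x => allLt 64 fun y => Nat.beq (f (x ^^^ y)) (f x ^^^ f y) && Nat.blt (f x) 64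

theorem linOk_add {f : ℕ → ℕ} (h : linOk f = true) {x y : ℕ} (hx : x < 64) (hy : y < 64) :
    f (x ^^^ y) = f x ^^^ f y := by
  have := allLt_spec (allLt_spec h hx) hy
  rw [Bool.and_eq_true] at this
  exact Nat.eq_of_beq_eq_true this.1

theorem linOk_lt {f : ℕ → ℕ} (h : linOk f = true) {x : ℕ} (hx : x < 64) : f x < 64 := by
  have := allLt_spec (allLt_spec h hx) hx
  rw [Bool.and_eq_true] at this
  exact Nat.blt_eq.mp this.2

theorem rot_lin : linOk rot = true := by decide +kernel

theorem pc_lin : linOk pc = true := by decide +kernel

theorem yw_lin : linOk yw = true := by decide +kernel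

theorem yc_lin : linOk yc = true := by decide +kernel

theorem sh_lin : linOk sh = true := by decide +kernel

/-- The entries of an invariant alternating form. -/
def ent (c i l : ℕ) : Bool :=
  if i / 2 == l / 2 then i != l && c.testBit (i / 2)
  else
    let a := c.testBit (2 * (i / 2 + l / 2) + 1)
    let b := c.testBit (2 * (i / 2 + l / 2) + 2)
    let m := if i < l then i else l
    let n := if i < l then l else i
    if m % 2 == n % 2 then a else if m % 2 == 0 then b else a ^^ b

/-- The map of an invariant alternating form. -/
def appF (c x : ℕ) : ℕ := mk6 fun i => par (mk6 (ent c i) &&& x)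

/-- The forms fixed by the two elements of order three of rank four. -/
def fixedForms (f : ℕ → ℕ) (L : List ℕ) : Bool :=
  allLt 512 fun c =>
    !(allLt 6 fun i => allLt 6 fun l =>
      par (f (1 <<< i) &&& appF c (f (1 <<< l))) == par (1 <<< i &&& appF c (1 <<< l))) ||
    !(((List.range 64).filter fun x => Nat.beq (appF c x) 0).length == 4) ||
    L.any fun u => allLt 6 fun i => Nat.beq (mk6 (ent c i)) (row u i)

theorem fixed_yc : fixedForms yc [1, 2, 3] = true := by decide +kernel

theorem fixed_sh : fixedForms sh [4, 8, 12] = true := by decide +kernel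

/-- Different members give different forms. -/
def formInj : Bool :=
  allLt 16 fun u => allLt 16 fun v => Nat.beq u v || !(allLt 6 fun i => Nat.beq (app u (1 <<< i)) (app v (1 <<< i)))

theorem formInj_check : formInj = true := by decide +kernel

/-- The permutation of the members by the first element of order three. -/
def yu (u : ℕ) : ℕ := (u &&& 3) ^^^ [0, 12, 4, 8].getD (u >>> 2) 0

/-- The permutation of the members by the second element of order three. -/
def su (u : ℕ) : ℕ := (u &&& 12) ^^^ [0, 3, 1, 2].getD (u &&& 3) 0

theorem yu_spec : (allLt 16 fun u => Nat.blt (yu u) 16 && allLt 64 fun x =>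
    Nat.beq (app (yu u) (yc x)) (yw (app u x))) = true := by decide +kernel

theorem su_spec : (allLt 16 fun u => Nat.blt (su u) 16 && allLt 64 fun x =>
    Nat.beq (app (su u) (sh x)) (sh (app u x))) = true := by decide +kernel

theorem perm_lin : (allLt 16 fun u => allLt 16 fun v =>
    Nat.beq (yu (u ^^^ v)) (yu u ^^^ yu v) && Nat.beq (su (u ^^^ v)) (su u ^^^ su v)) = true := by decide +kernel

end Cfsg.Lib.JankoFour.BitModel
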