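import Cfsg.Agent.Lib.JankoFour.BitModel.Fast

/-!
# Checks for the count of the conjugates of the centre in the bit model
-/

set_option autoImplicit false
set_option maxRecDepth 4000

namespace Cfsg.Lib.JankoFour.BitModel

/-- The images of the forms, as masks. -/
def rangeM : List ℕ :=
  [1, 65535, 4222189076152335, 1229782938247303441, 1317339743034442785, 9521036366723515425, 9838188445411971345,
   17293839061792849935, 9314046665258451585, 4792184601432900225, 2459678465339953425, 1080864945387601935,
   9373139274136299585, 2900643895316654145, 4919094224710275345, 67817877452881935]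

/-- The values of the quadratic function on the images, as masks. -/
def quadM : List ℕ :=
  [0, 4382, 281479271743502, 281479271747856, 162165321921200128, 9223657914175127552, 9223376434903388432,
   9223376434903384078, 9241426017919172608, 144397218177155072, 144115738905415952, 144115738905411598,
   9367492173808795648, 18331062287532032, 18049583015792912, 18049583015788558]

/-- Membership in the image of a form. -/
def inRange (u x : ℕ) : Bool := (rangeM.getD u 0).testBit x

/-- The value of the quadratic function at an image. -/
def quadAt (u x : ℕ) : Bool := (quadM.getD u 0).testBit x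

theorem range_spec : (allLt 16 fun u => allLt 64 fun c =>
    inRange u (app u c) && (quadAt u (app u c) == quad u c)) = true := by decide +kernel

theorem range_pre : (allLt 16 fun u => allLt 64 fun x =>
    !inRange u x || (List.range 64).any fun c => Nat.beq (app u c) x) = true := by
  rw [allLt_congr fun u hu => allLt_congr fun x _ => congrArg (!inRange u x || ·)
    (any_range_congr fun c hc => show Nat.beq (app u c) x = Nat.beq (appT u c) x by rw [app_eq hu hc])]
  decide +kernel

/-- The large orbit on the fixed space, as a mask. -/
def bigMask : ℕ := 1233442168780025568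

/-- A union of orbits. -/
def kMask (s t0 t1 t2 t3 : Bool) : ℕ :=
  cst s bigMask ^^^ cst t0 (tri.getD 0 0) ^^^ cst t1 (tri.getD 1 0) ^^^ cst t2 (tri.getD 2 0) ^^^
    cst t3 (tri.getD 3 0)

/-- The representatives of the orbits on the fixed space. -/
def orbRep : List ℕ := [5, 1, 23, 21, 22]

/-- Reachability under the three maps. -/
def reach : ℕ → ℕ → ℕ → Bool
  | 0, r, x => Nat.beq r x
  | n + 1, r, x => Nat.beq r x || reach n (rot r) x || reach n (sh r) x || reach n (yw r) x

theorem reach_spec {α : Type*} {f : ℕ → α} (hf : ∀ y < 64, f (rot y) = f y ∧ f (sh y) = f y ∧ f (yw y) = f y) :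
    ∀ n r x, r < 64 → reach n r x = true → f x = f r := by
  intro n
  induction n with
  | zero =>
    intro r x _ h
    rw [Nat.eq_of_beq_eq_true h]
  | succ n ih =>
    intro r x hr h
    simp only [reach, Bool.or_eq_true] at h
    obtain ⟨h1, h2, h3⟩ := hf r hr
    rcases h with ((h | h) | h) | h
    · rw [Nat.eq_of_beq_eq_true h]
    · rw [ih _ x (linOk_lt rot_lin hr) h, h1]
    · rw [ih _ x (linOk_lt sh_lin hr) h, h2]
    · rw [ih _ x (linOk_lt yw_lin hr) h, h3]

theorem orbit_cover : (allLt 64 fun x => Nat.beq x 0 || (List.range 5).any fun j =>
    reach 4 (orbRep.getD j 0) x && [false, true].all fun a => [false, true].all fun b => [false, true].all fun c =>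
      [false, true].all fun d => [false, true].all fun e =>
        (kMask a b c d e).testBit x == [a, b, c, d, e].getD j false) = true := by decide +kernel

/-- The classes: true for the conjugates of the centre. -/
def zF (m : ℕ) (eps al be ga : Bool) (v : ℕ) : Bool :=
  if cu v == 0 then (if cx v == 0 then cb v else !m.testBit (cx v))
  else if inRange (cu v) (cx v) then cb v != (sgn al be ga (cu v) ^^ quadAt (cu v) (cx v)) else eps

/-- A representative outside the image. -/
def rep96 (u : ℕ) : ℕ := ((List.range 64).find? fun x => !inRange u x).getD 0

theorem orbit96 : (allLt 16 fun u => Nat.beq u 0 || (!inRange u (rep96 u) && Nat.blt (rep96 u) 64 &&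
    allLt 64 fun x => inRange u x ||
      [false, true].all fun b => [rep96 u, rot (rep96 u), pc (rep96 u)].any fun r =>
        (List.range 64).any fun c => Nat.beq (eAct c (code false r u)) (code b x u))) = true := by
  have h : (allLt 16 fun u => Nat.beq u 0 || (!inRange u (rep96 u) && Nat.blt (rep96 u) 64 &&
      allLt 64 fun x => inRange u x ||
        [false, true].all fun b => [rep96 u, rot (rep96 u), pc (rep96 u)].any fun r =>
          (List.range 64).any fun c => Nat.blt r 64 && Nat.beq (eActT c (code false r u)) (code b x u))) = true := by
    decide +kernel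
  refine List.all_eq_true.2 fun u hu => ?_
  have h1 := List.all_eq_true.1 h u hu
  simp only [Bool.or_eq_true, Bool.and_eq_true, allLt, List.all_eq_true, List.any_eq_true] at h1 ⊢
  refine h1.imp id fun h2 => ⟨h2.1, fun x hx => (h2.2 x hx).imp id fun h3 b hb => ?_⟩
  obtain ⟨r, hr, c, hc, hr64, he⟩ := h3 b hb
  exact ⟨r, hr, c, hc, by
    rw [eAct_eq (List.mem_range.1 hc) (code_lt (Nat.blt_eq.mp hr64) (List.mem_range.1 hu))]; exact he⟩

/-- The number of conjugates of the centre in the fixed part. -/
def zCountK (m : ℕ) : ℕ :=
  ((List.range 128).filter fun v => if cx v == 0 then cb v else !m.testBit (cx v)).length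

/-- The number of conjugates of the centre outside the fixed part. -/
def zCountT (eps al be ga : Bool) : ℕ :=
  ((List.range 1920).filter fun v => zF 0 eps al be ga (128 + v)).length

theorem zCountT_eq : ([false, true].all fun eps => [false, true].all fun al => [false, true].all fun be =>
    [false, true].all fun ga => Nat.beq (zCountT eps al be ga) (if eps then 1680 else 240)) = true := by
  decide +kernel

/-- The order of the general linear group. -/
def glCard : ℕ := ((List.range 11).map fun i => 2 ^ 11 - 2 ^ i).prod

theorem count_force : ([false, true].all fun eps => [false, true].all fun s => [false, true].all fun t0 =>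
    [false, true].all fun t1 => [false, true].all fun t2 => [false, true].all fun t3 =>
      !(glCard % (zCountK (kMask s t0 t1 t2 t3) + if eps then 1680 else 240) == 0) ||
      (eps && !s && (t0.toNat + t1.toNat + t2.toNat + t3.toNat == 2) &&
        Nat.beq (zCountK (kMask s t0 t1 t2 t3)) 91)) = true := by decide +kernel

end Cfsg.Lib.JankoFour.BitModel
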