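import Cfsg.Agent.Lib.JankoFour.BitModel.Into

/-!
# Commutators and one intersection in the bit model
-/

set_option autoImplicit false
set_option maxRecDepth 4000
set_option maxHeartbeats 0

namespace Cfsg.Lib.JankoFour.BitModel

theorem comm_any : (allLt 2048 fun v => Nat.blt v 128 ||
    (List.range 64).any fun c => inD (eAct c v ^^^ v)) = true := by
  rw [allLt_congr fun v hv => congrArg (Nat.blt v 128 || ·)
    (any_range_congr fun c hc => show inD (eAct c v ^^^ v) = inD (eActT c v ^^^ v) by rw [eAct_eq hc hv])]
  decide +kernel

theorem meet_fifty_six : (Nat.beq ((List.range 2048).filter fun v =>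
      Nat.blt v 128 && (kMasks.getD 1 0).testBit v).length 32 &&
    [false, true].all fun b => [rot 28, rot (rot 28), 28].all fun y =>
      (kMasks.getD 1 0).testBit (code b y 0)) = true := by decide +kernel

end Cfsg.Lib.JankoFour.BitModel
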