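import Cfsg.Agent.Lib.JankoFour.BitModel.Count

/-!
# The set of the elements not conjugate to the centre is forced
-/

set_option autoImplicit false
set_option maxRecDepth 4000
set_option maxHeartbeats 0

namespace Cfsg.Lib.JankoFour.BitModel

/-- The candidate set, from membership of the four small orbits. -/
def candD (t0 t1 t2 t3 al be ga : Bool) : ℕ := genD (kMask false t0 t1 t2 t3) al be ga

/-- The set of a candidate, from the tables. -/
def genT (oval : ℕ) (al be ga : Bool) : ℕ :=
  (List.range 16).foldl (fun m u => (List.range 64).foldl (fun m c =>
    m ||| if u == 0 then (if oval.testBit c then 1 <<< code false c 0 ||| 1 <<< code true c 0 else 0)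
      else 1 <<< code (sgn al be ga u ^^ quadT u c) (appT u c) u) m) 0

theorem genD_eq (oval : ℕ) (al be ga : Bool) : genD oval al be ga = genT oval al be ga :=
  List.foldl_ext _ _ _ fun m u hu => List.foldl_ext _ _ _ fun m c hc => by
    rw [app_eq (List.mem_range.1 hu) (List.mem_range.1 hc), quad_eq (List.mem_range.1 hu) (List.mem_range.1 hc)]

theorem candD_spec : ([false, true].all fun t0 => [false, true].all fun t1 => [false, true].all fun t2 =>
    [false, true].all fun t3 => [false, true].all fun al => [false, true].all fun be => [false, true].all fun ga =>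
      !(Nat.ble (t0.toNat + t1.toNat + t2.toNat + t3.toNat) 2) ||
      let m := kMask false t0 t1 t2 t3
      let D := candD t0 t1 t2 t3 al be ga
      allLt 2048 fun v => D.testBit v == if cu v == 0 then (cx v != 0 && m.testBit (cx v))
        else inRange (cu v) (cx v) && (cb v == (sgn al be ga (cu v) ^^ quadAt (cu v) (cx v)))) = true := by
  simp only [candD, genD_eq]
  refine List.all_eq_true.2 fun t0 h0 => List.all_eq_true.2 fun t1 h1 => ?_
  simp only [List.mem_cons, List.not_mem_nil, or_false] at h0 h1
  rcases h0 with rfl | rfl <;> rcases h1 with rfl | rfl <;> decide +kernel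

/-- The number of the elements of a set. -/
def count (D : ℕ) : ℕ := ((List.range 2048).filter D.testBit).length

theorem candD_count : ([false, true].all fun t0 => [false, true].all fun t1 => [false, true].all fun t2 =>
    [false, true].all fun t3 => [false, true].all fun al => [false, true].all fun be => [false, true].all fun ga =>
      !(Nat.ble (t0.toNat + t1.toNat + t2.toNat + t3.toNat) 2) ||
        Nat.beq (count (candD t0 t1 t2 t3 al be ga)) (240 + 18 * (t0.toNat + t1.toNat + t2.toNat + t3.toNat)))
    = true := by
  simp only [candD, genD_eq]
  refine List.all_eq_true.2 fun t0 h0 => List.all_eq_true.2 fun t1 h1 => ?_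
  simp only [List.mem_cons, List.not_mem_nil, or_false] at h0 h1
  rcases h0 with rfl | rfl <;> rcases h1 with rfl | rfl <;> decide +kernel

/-- The number of neighbours in a set. -/
def nbrs (D t : ℕ) : ℕ := ((List.range 2048).filter fun s => D.testBit s && D.testBit (t ^^^ s)).length

theorem nbrs_eq {D t : ℕ} :
    nbrs D t = (((List.range 2048).filter D.testBit).filter fun s => D.testBit (t ^^^ s)).length := by
  rw [nbrs, List.filter_filter]
  simp only [Bool.and_comm]

/-- The neighbour counts at some members. -/
def sample (D : ℕ) : List ℕ := ([2, 42, 44, 46, 128, 512, 640, 641].filter D.testBit).map (nbrs D)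

theorem pick_check : ([false, true].all fun t0 => [false, true].all fun t1 => [false, true].all fun t2 =>
    [false, true].all fun t3 => [false, true].all fun al => [false, true].all fun be => [false, true].all fun ga =>
      !(t0.toNat + t1.toNat + t2.toNat + t3.toNat == 2) ||
      Nat.beq (candD t0 t1 t2 t3 al be ga) dMask && (!t1 && !t3 && !al && !be && ga) ||
      let M := sample (candD t0 t1 t2 t3 al be ga)
      M.any fun n => !(Nat.beq n (M.headD 0))) = true := by
  simp only [sample, show ∀ D, nbrs D = _ from fun D => funext fun t => nbrs_eq (D := D) (t := t)]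
  simp only [candD, genD_eq]
  refine List.all_eq_true.2 fun t0 h0 => List.all_eq_true.2 fun t1 h1 => ?_
  simp only [List.mem_cons, List.not_mem_nil, or_false] at h0 h1
  rcases h0 with rfl | rfl <;> rcases h1 with rfl | rfl <;> decide +kernel

theorem dMask_nbrs : (allLt 2048 fun v => !inD v || Nat.beq (nbrs dMask v) 44) = true := by
  simp only [funext fun t => nbrs_eq (D := dMask) (t := t)]
  decide +kernel

end Cfsg.Lib.JankoFour.BitModel
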