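import Cfsg.Agent.Lib.JankoFour.BitModel.Aut

/-!
# The two orbits in the fixed part of the bit model
-/

set_option autoImplicit false
set_option maxRecDepth 4000
set_option maxHeartbeats 0

namespace Cfsg.Lib.JankoFour.BitModel

/-- The images of a code of the fixed part under the generators. -/
def kGen (v : ℕ) : List ℕ :=
  [eAct 1 v, eAct 2 v, eAct 4 v, eAct 8 v, eAct 16 v, eAct 32 v, code (cb v) (rot (cx v)) 0,
    code (cb v) (sh (cx v)) 0, code (cb v) (yw (cx v)) 0, lin mixL v]

/-- Each member is reached from an earlier one. -/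
def chain : List ℕ → List ℕ → Bool
  | _, [] => true
  | seen, x :: xs => (seen.any fun w => Nat.blt w 128 && (kGen w).any fun y => Nat.beq y x) && chain (x :: seen) xs

theorem chain_spec {P : ℕ → Prop} (hP : ∀ w < 128, P w → ∀ y ∈ kGen w, P y) :
    ∀ xs seen, (∀ w ∈ seen, P w) → chain seen xs = true → ∀ x ∈ xs, P x
  | [], _, _, _, _, hx => absurd hx List.not_mem_nil
  | a :: xs, seen, hs, h, x, hx => by
    rw [chain, Bool.and_eq_true] at h
    obtain ⟨w, hw, hw'⟩ := List.any_eq_true.1 h.1
    rw [Bool.and_eq_true, Nat.blt_eq] at hw'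
    obtain ⟨y, hy, hya⟩ := List.any_eq_true.1 hw'.2
    obtain rfl := Nat.eq_of_beq_eq_true hya
    have ha : P y := hP w hw'.1 (hs w hw) y hy
    rcases List.mem_cons.1 hx with rfl | hx
    · exact ha
    · exact chain_spec hP xs (y :: seen) (fun w hw => (List.mem_cons.1 hw).elim (fun e => e ▸ ha) (hs w)) h.2 x hx

/-- The members of the first orbit in an order of search. -/
def zChain : List ℕ :=
  [11, 20, 40, 26, 45, 21, 41, 27, 44, 30, 80, 12, 122, 34, 88, 58, 104, 18, 87, 51, 93, 69, 31, 81, 13, 123, 35,
   89, 59, 105, 19, 86, 50, 92, 68, 120, 22, 118, 48, 28, 121, 110, 102, 66, 23, 100, 112, 113, 76, 106, 82, 38,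
   56, 72, 46, 111, 75, 117, 14, 103, 101, 119, 49, 29, 67, 77, 107, 83, 39, 57, 73, 47, 74, 116, 15, 94, 125, 62,
   98, 36, 70, 71, 52, 124, 63, 37, 95, 99, 53]

/-- The members of the second orbit in an order of search. -/
def dChain : List ℕ :=
  [3, 4, 8, 42, 5, 9, 43, 6, 16, 126, 32, 24, 7, 84, 90, 17, 127, 33, 25, 85, 91, 64, 54, 61, 96, 108, 114, 65,
   55, 60, 97, 109, 115, 78, 79]

theorem zChain_ok : chain [10] zChain = true := by decide +kernel

theorem dChain_ok : chain [2] dChain = true := by decide +kernel

theorem chain_cover : (allLt 128 fun v => Nat.beq v 0 || Nat.beq v 1 ||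
    if inD v then (2 :: dChain).any (Nat.beq v) else (10 :: zChain).any (Nat.beq v)) = true := by decide +kernel

/-- The numbers of members in the fixed part. -/
theorem count_fixed : (Nat.beq ((List.range 128).filter fun v => Nat.ble 2 v && !inD v).length 90 &&
    Nat.beq ((List.range 128).filter fun v => Nat.ble 2 v && inD v).length 36) = true := by decide +kernel

/-- Conjugation by `E` moves an element outside the fixed part into it. -/
theorem comm_into : (allLt 2048 fun v => Nat.blt v 128 || !inD v ||
    (List.range 64).any fun c => Nat.blt (eAct c v ^^^ v) 128 && inD (eAct c v ^^^ v)) = true := by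
  rw [allLt_congr fun v hv => congrArg (Nat.blt v 128 || !inD v || ·) (any_range_congr fun c hc =>
    show (Nat.blt (eAct c v ^^^ v) 128 && inD (eAct c v ^^^ v)) =
      (Nat.blt (eActT c v ^^^ v) 128 && inD (eActT c v ^^^ v)) by rw [eAct_eq hc hv])]
  decide +kernel

/-- In the fixed part multiplication by the centre is induced by `E`. -/
theorem flip_rep : ([10, 2].all fun r => (List.range 64).any fun c => Nat.beq (eAct c r) (r ^^^ 1)) = true := by
  decide +kernel

/-- A nonzero functional takes each value on half of the space. -/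
theorem half_count : (allLt 64 fun c => Nat.beq c 0 || [false, true].all fun b =>
    Nat.beq ((List.range 64).filter fun x => par (x &&& c) == b).length 32) = true := by decide +kernel

end Cfsg.Lib.JankoFour.BitModel
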